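import Cfsg.Agent.Lib.PcMult.Split

/-!
Sylow presentations and certificates for the multiplier of the McLaughlin group.
-/

set_option autoImplicit false
set_option maxRecDepth 100000

namespace Cfsg.Agent.Lib.McLMult.Data

open Cfsg.Agent.Lib.PcMult

/-- The presentation of a Sylow 2-subgroup. -/
def RTwo : Pres :=
⟨2, 7, [[0, 0, 0, 0, 0, 0, 0], [0, 0, 0, 0, 0, 0, 0], [0, 0, 0, 0, 0, 0, 0], [0, 0, 0, 0, 0, 0, 0], [0, 0, 0,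
    0, 0, 0, 0], [0, 0, 0, 0, 0, 0, 0], [0, 0, 0, 0, 0, 0, 0]], [[[], [0, 1, 0, 1, 0, 0, 0], [0, 0, 1, 0, 0, 0,
    1], [0, 0, 0, 1, 0, 0, 0], [0, 0, 0, 0, 1, 1, 1], [0, 0, 0, 0, 0, 1, 0], [0, 0, 0, 0, 0, 0, 1]], [[], [],
    [0, 0, 1, 0, 1, 0, 0], [0, 0, 0, 1, 0, 0, 0], [0, 0, 0, 0, 1, 0, 0], [0, 0, 0, 0, 0, 1, 1], [0, 0, 0, 0, 0,
    0, 1]], [[], [], [], [0, 0, 0, 1, 0, 1, 0], [0, 0, 0, 0, 1, 0, 0], [0, 0, 0, 0, 0, 1, 0], [0, 0, 0, 0, 0,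
    0, 1]], [[], [], [], [], [0, 0, 0, 0, 1, 0, 1], [0, 0, 0, 0, 0, 1, 0], [0, 0, 0, 0, 0, 0, 1]], [[], [], [],
    [], [], [0, 0, 0, 0, 0, 1, 0], [0, 0, 0, 0, 0, 0, 1]], [[], [], [], [], [], [], [0, 0, 0, 0, 0, 0, 1]],
    [[], [], [], [], [], [], []]]⟩

/-- Overlaps. -/
def ovlTwo : List (List ℕ × List ℕ × List ℕ) :=
[([1], [1, 0], []), ([1], [0, 0], []), ([2], [1, 0], []), ([4], [1, 0], []), ([5], [1, 0], []), ([6], [1, 0],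
    []), ([2], [2, 0], []), ([2], [0, 0], []), ([3], [2, 0], []), ([4], [2, 0], []), ([5], [2, 0], []), ([4],
    [4, 0], []), ([4], [0, 0], []), ([2], [2, 1], []), ([2], [1, 1], []), ([3], [2, 1], []), ([6], [2, 1], []),
    ([5], [5, 1], [])]

/-- Conjugations. -/
def fusTwo : List Fus :=
[([([0], [1, 4, 6]), ([1, 4, 6], [0, 3, 5]), ([3, 5], [3, 5])], [([0, 0], [])]), ([([1], [0, 3, 5, 6]), ([4],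
    [6]), ([2, 5], [1, 3]), ([4, 6], [3, 6])], [([1, 0], [0, 1]), ([3, 0], [0, 3]), ([2, 2], [])]), ([([4], [0,
    3]), ([0, 3, 5, 6], [1, 3]), ([5], [3])], [([0, 0], [])]), ([([0], [0, 5, 6]), ([0, 3], [3, 5]), ([2], [2,
    4, 6]), ([4], [4, 5, 6]), ([5], [6]), ([5, 6], [5, 6])], [([3, 0], [0, 3, 5]), ([2, 1], [1, 2, 5])])]

/-- The certificate. -/
def CTwo : Cert :=
⟨RTwo, ovlTwo, fusTwo, [[], [], [], [1], [9], [2, 4], [2]], [[0, 1, 0, 0, 0, 1, 0, 1, 0, 0, 0, 0, 0, 0, 1, 0,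
    0, 1, 0, 1, 0, 0, 1, 0, 0], [0, 0, 0, 0, 0, 0, 0, 0, 0, 0, 0, 0, 0, 0, 0, 0, 0, 0, 0, 0, 0, 0, 0, 0, 0],
    [0, 0, 0, 0, 0, 0, 0, 0, 0, 0, 0, 0, 0, 0, 0, 0, 0, 0, 0, 0, 0, 0, 0, 0, 0], [0, 0, 0, 1, 0, 0, 0, 1, 1, 0,
    0, 1, 1, 0, 0, 1, 1, 1, 0, 1, 1, 0, 0, 0, 0], [0, 0, 0, 0, 0, 0, 0, 0, 0, 0, 0, 0, 0, 0, 0, 0, 0, 0, 0, 0,
    0, 0, 0, 0, 0], [0, 0, 0, 0, 0, 1, 0, 0, 1, 0, 1, 0, 0, 0, 0, 0, 0, 0, 0, 0, 0, 0, 0, 0, 0], [0, 0, 0, 0,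
    0, 0, 0, 1, 0, 0, 1, 0, 0, 0, 0, 0, 0, 1, 0, 0, 0, 0, 0, 0, 0], [0, 1, 0, 1, 1, 1, 0, 1, 1, 0, 0, 1, 1, 0,
    0, 1, 0, 0, 1, 1, 0, 0, 1, 0, 0], [0, 0, 0, 0, 0, 0, 0, 0, 0, 0, 0, 0, 0, 0, 0, 0, 0, 0, 0, 0, 0, 0, 0, 0,
    0], [1, 1, 0, 1, 0, 0, 0, 1, 1, 0, 0, 1, 1, 0, 0, 1, 1, 1, 0, 1, 1, 0, 0, 0, 0], [0, 0, 0, 0, 0, 1, 0, 1,
    0, 0, 0, 0, 0, 0, 0, 0, 0, 1, 0, 1, 0, 0, 0, 0, 0], [0, 0, 0, 0, 0, 1, 1, 1, 1, 1, 1, 0, 0, 0, 0, 1, 0, 1,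
    0, 0, 0, 0, 0, 1, 1], [0, 0, 0, 1, 1, 0, 0, 0, 1, 0, 1, 1, 1, 0, 0, 1, 1, 0, 0, 0, 0, 0, 0, 0, 0], [1, 1,
    0, 1, 1, 0, 1, 0, 0, 1, 0, 1, 0, 0, 0, 1, 1, 1, 1, 1, 0, 1, 1, 0, 0], [0, 0, 1, 1, 1, 1, 1, 0, 1, 1, 1, 1,
    0, 0, 0, 1, 0, 0, 0, 0, 0, 0, 0, 1, 1], [0, 0, 0, 0, 0, 1, 0, 1, 0, 0, 0, 0, 0, 1, 1, 0, 0, 1, 0, 1, 0, 0,
    0, 0, 0], [0, 0, 0, 0, 0, 0, 1, 0, 0, 1, 0, 0, 0, 0, 0, 0, 1, 1, 0, 0, 0, 0, 0, 0, 0], [0, 0, 0, 0, 0, 0,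
    1, 0, 0, 0, 1, 0, 0, 0, 0, 0, 0, 1, 0, 0, 0, 0, 0, 0, 0], [0, 1, 0, 1, 0, 0, 0, 1, 1, 0, 0, 1, 1, 0, 0, 1,
    1, 1, 0, 1, 1, 0, 0, 0, 0], [0, 0, 0, 0, 0, 0, 1, 0, 0, 1, 1, 1, 1, 0, 0, 0, 1, 1, 0, 0, 0, 0, 0, 1, 1],
    [0, 0, 0, 0, 1, 1, 0, 1, 0, 0, 1, 0, 0, 0, 0, 0, 0, 1, 0, 0, 0, 0, 0, 0, 0], [0, 0, 0, 0, 0, 1, 0, 0, 0, 0,
    0, 0, 0, 0, 0, 0, 0, 0, 0, 0, 0, 0, 0, 0, 0], [0, 0, 0, 0, 0, 1, 0, 1, 0, 0, 0, 0, 0, 0, 1, 0, 0, 1, 0, 1,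
    0, 0, 0, 0, 0], [0, 0, 0, 0, 0, 1, 0, 1, 1, 0, 0, 1, 1, 0, 0, 0, 1, 1, 0, 0, 0, 0, 0, 0, 0], [0, 0, 0, 0,
    0, 0, 0, 0, 0, 0, 0, 0, 0, 0, 0, 0, 1, 0, 0, 0, 0, 0, 0, 0, 0], [0, 0, 0, 0, 0, 1, 0, 1, 1, 0, 0, 0, 1, 0,
    0, 0, 0, 0, 0, 0, 0, 0, 0, 0, 0], [0, 0, 0, 0, 0, 0, 0, 0, 0, 0, 1, 0, 0, 0, 0, 0, 0, 0, 0, 0, 0, 0, 0, 0,
    0], [0, 0, 0, 0, 0, 0, 0, 0, 0, 0, 1, 0, 0, 0, 0, 0, 0, 1, 0, 0, 0, 0, 0, 0, 0]]⟩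

/-- The generators, then the conjugating elements. -/
def eltsTwo : List (List ℕ) :=
[[0, 224, 327, 457, 4], [0, 294, 164, 343, 370], [54, 191, 261, 457, 462], [0, 238, 417, 358, 4], [57, 373,
    415, 456, 370], [8, 124, 417, 358, 370], [109, 249, 313, 431, 462], [138, 232, 266, 446, 370], [125, 174,
    405, 460, 4], [77, 287, 334, 451, 462], [228, 125, 417, 446, 4]]

/-- For each generator a tuple and its orbit under the later ones. -/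
def orbsTwo : List (List ℕ × List (List ℕ)) :=
[([141], [[141], [146]]), ([119], [[119]]), ([7], [[7], [42]]), ([141], [[141]]), ([7], [[7]]), ([1], [[1]]),
    ([0], [[0]])]

/-- The presentation of a Sylow 3-subgroup. -/
def RThree : Pres :=
⟨3, 6, [[0, 0, 0, 0, 0, 0], [0, 0, 0, 0, 0, 0], [0, 0, 0, 0, 0, 0], [0, 0, 0, 0, 0, 0], [0, 0, 0, 0, 0, 0], [0,
    0, 0, 0, 0, 0]], [[[], [0, 1, 0, 0, 0, 0], [0, 0, 1, 0, 1, 2], [0, 0, 0, 1, 0, 0], [0, 0, 0, 0, 1, 1], [0,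
    0, 0, 0, 0, 1]], [[], [], [0, 0, 1, 1, 0, 2], [0, 0, 0, 1, 0, 1], [0, 0, 0, 0, 1, 0], [0, 0, 0, 0, 0, 1]],
    [[], [], [], [0, 0, 0, 1, 0, 0], [0, 0, 0, 0, 1, 0], [0, 0, 0, 0, 0, 1]], [[], [], [], [], [0, 0, 0, 0, 1,
    0], [0, 0, 0, 0, 0, 1]], [[], [], [], [], [], [0, 0, 0, 0, 0, 1]], [[], [], [], [], [], []]]⟩

/-- Overlaps. -/
def ovlThree : List (List ℕ × List ℕ × List ℕ) :=
[([2], [1, 0], []), ([3], [1, 0], []), ([4], [1, 0], []), ([2, 2], [2, 0], []), ([2], [0, 0, 0], []), ([3], [2,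
    0], []), ([4], [2, 0], []), ([5], [2, 0], []), ([3, 3], [3, 0], []), ([4], [3, 0], []), ([2, 2], [2, 1],
    []), ([2], [1, 1, 1], [])]

/-- Conjugations. -/
def fusThree : List Fus :=
[([([0], [1, 1, 5, 5]), ([1], [0, 5, 5]), ([2], [2, 2, 3, 3, 4, 4, 5, 5]), ([3], [4, 4, 5, 5]), ([4], [3, 5]),
    ([5], [5, 5])], [([0, 0, 0], []), ([1, 1, 1], []), ([2, 2, 2], []), ([3, 2], [2, 3]), ([4, 2], [2, 4])]),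
    ([([0], [0, 0, 1, 4]), ([1], [0, 1, 3, 5, 5]), ([0, 3], [0, 3, 5, 5]), ([1, 4], [0, 0]), ([5], [5])], [([1,
    0], [0, 1]), ([2, 0], [0, 2])])]

/-- The certificate. -/
def CThree : Cert :=
⟨RThree, ovlThree, fusThree, [[4, 4, 4, 36, 36, 36, 36, 36, 36, 36, 37, 37, 37, 37, 37], [4, 4, 4, 4, 4, 36,
    36, 36, 36, 36, 36, 36, 37, 37, 37, 37, 37, 37, 37], [2, 2, 2, 2, 4, 4, 4, 4, 4, 4, 8, 8, 8, 8, 38, 38, 38,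
    38, 38, 38, 38], [4, 4, 4, 4, 4, 4, 4, 8], [2, 4, 4, 4, 4, 4, 4, 4], [4]], [[0, 6, 0, 0, 0, 0, 0, 0, 0, 6,
    6, 6, 1, 2, 0, 0, 0, 0, 0], [1, 7, 8, 0, 0, 8, 0, 7, 0, 0, 0, 0, 0, 0, 0, 0, 0, 1, 8], [0, 0, 0, 0, 0, 0,
    0, 0, 0, 0, 0, 0, 0, 0, 0, 0, 0, 0, 0], [0, 0, 0, 0, 0, 0, 0, 0, 0, 0, 0, 0, 0, 0, 0, 0, 0, 0, 0], [0, 0,
    0, 0, 0, 0, 0, 0, 0, 0, 0, 0, 0, 0, 0, 0, 0, 0, 0], [0, 8, 0, 0, 0, 0, 0, 0, 0, 0, 0, 0, 0, 0, 0, 0, 0, 0,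
    0], [3, 0, 1, 0, 0, 6, 6, 6, 0, 1, 4, 4, 1, 1, 0, 6, 6, 3, 0], [0, 0, 0, 0, 0, 0, 0, 0, 0, 0, 0, 0, 0, 0,
    0, 0, 0, 0, 0], [1, 2, 6, 0, 0, 7, 0, 7, 0, 8, 0, 0, 0, 0, 0, 0, 0, 1, 0], [1, 7, 7, 0, 0, 8, 0, 7, 0, 0,
    0, 0, 0, 0, 0, 0, 0, 0, 0], [0, 0, 1, 0, 0, 0, 0, 0, 0, 0, 0, 0, 0, 0, 0, 0, 0, 0, 0], [0, 0, 3, 7, 0, 6,
    6, 6, 0, 6, 1, 3, 0, 0, 1, 0, 0, 0, 0], [0, 0, 0, 0, 0, 2, 6, 1, 0, 6, 0, 0, 0, 0, 0, 4, 7, 0, 0], [0, 0,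
    0, 0, 0, 6, 5, 6, 0, 7, 0, 0, 0, 0, 0, 8, 4, 0, 0], [0, 0, 0, 0, 0, 0, 1, 1, 0, 0, 0, 0, 0, 0, 0, 0, 0, 0,
    0], [6, 0, 5, 3, 3, 6, 0, 0, 0, 8, 0, 8, 0, 0, 0, 0, 0, 6, 0], [0, 0, 0, 0, 0, 8, 0, 0, 0, 7, 0, 0, 0, 0,
    0, 0, 0, 0, 0], [0, 0, 0, 0, 0, 0, 0, 0, 0, 1, 0, 0, 0, 0, 0, 0, 0, 0, 0], [6, 0, 5, 4, 3, 3, 3, 0, 0, 8,
    8, 8, 0, 0, 0, 6, 0, 6, 0], [0, 0, 0, 0, 0, 0, 0, 1, 0, 0, 0, 0, 0, 0, 0, 0, 0, 0, 0], [6, 3, 5, 0, 0, 3,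
    3, 3, 0, 2, 8, 8, 0, 0, 0, 3, 3, 6, 0]]⟩

/-- The residual element. -/
def resThree : List ℕ :=
[3]

/-- The multiples of the residual element. -/
def multThree : List ℕ :=
[0, 0, 0, 8, 0, 0, 3, 0, 1, 8, 0, 0, 0, 0, 0, 6, 0, 0, 6, 0, 6]

/-- Three times the residual element. -/
def torThree : List ℕ :=
[0, 0, 0, 0, 0, 0, 0, 0, 4, 0, 0, 0, 0, 0, 0, 0, 0, 0, 0]

/-- The generators, then the conjugating elements. -/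
def eltsThree : List (List ℕ) :=
[[0, 4, 4, 432, 462], [0, 4, 320, 461, 4], [0, 379, 261, 430, 370], [0, 186, 401, 433, 4], [0, 289, 322, 336,
    4], [0, 245, 198, 4, 370], [0, 229, 272, 353, 4], [199, 290, 267, 280, 4]]

/-- For each generator a tuple and its orbit under the later ones. -/
def orbsThree : List (List ℕ × List (List ℕ)) :=
[([33], [[33], [43], [95], [100], [103], [110], [139], [186], [227]]), ([33], [[33], [103], [110]]), ([97],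
    [[97]]), ([1], [[1], [3], [12], [132], [135], [198], [219], [259], [261]]), ([1], [[1], [132], [259]]),
    ([1], [[1]])]

/-- The presentation of a Sylow 5-subgroup. -/
def RFive : Pres :=
⟨5, 3, [[0, 0, 0], [0, 0, 0], [0, 0, 0]], [[[], [0, 1, 4], [0, 0, 1]], [[], [], [0, 0, 1]], [[], [], []]]⟩

/-- Overlaps. -/
def ovlFive : List (List ℕ × List ℕ × List ℕ) :=
[([1, 1, 1, 1], [1, 0], [])]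

/-- Conjugations. -/
def fusFive : List Fus :=
[([([0], [0, 0, 0, 0, 1, 2, 2]), ([1], [0, 1, 2, 2, 2, 2]), ([2], [2, 2, 2])], [([0, 0, 0, 0, 0], []), ([2, 0],
    [0, 2]), ([1, 1, 1, 1, 1], []), ([2, 1], [1, 2])])]

/-- The certificate. -/
def CFive : Cert :=
⟨RFive, ovlFive, fusFive, [[], [], [1, 1, 1, 1]], [[2, 0, 0, 1, 0], [0, 0, 0, 0, 0], [0, 0, 4, 0, 4], [3, 1, 0,
    2, 0], [0, 0, 4, 0, 2], [4, 0, 0, 0, 0]]⟩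

/-- The generators, then the conjugating elements. -/
def eltsFive : List (List ℕ) :=
[[2, 282, 255, 337, 4], [3, 375, 313, 442, 4], [28, 303, 309, 351, 462], [22, 378, 312, 438, 4]]

/-- For each generator a tuple and its orbit under the later ones. -/
def orbsFive : List (List ℕ × List (List ℕ)) :=
[([1], [[1], [53], [110], [150], [202]]), ([0], [[0], [28], [98], [158], [260]]), ([0], [[0]])]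

end Cfsg.Agent.Lib.McLMult.Data
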