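import Cfsg.Agent.Lib.McLMult.Stab
import Cfsg.Agent.Lib.McLMult.CertData
import Cfsg.Agent.Lib.PcMult.Trivial

/-!
The image of the compatible pairs is the whole point stabiliser, five points form a base, and words in
elements given by their coordinates are evaluated with tables.
-/

set_option autoImplicit false
set_option maxRecDepth 100000
set_option maxHeartbeats 1000000
set_option Elab.async false

namespace Cfsg.Agent.Lib.McLMult

open Cfsg.Agent.GroupStructure3.McLInv (pT allB allB_spec IsT TT card_TT)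
open Cfsg.Agent.Lib.PcMult

local notation "P275" => Equiv.Perm (Fin 275)

/-- An element with the tables of a number. -/
noncomputable def xN (k : ℕ) : X := if h : k < 463 then (exists_node k h).choose else 1

theorem xN_spec {k : ℕ} (h : k < 463) : IsNode k (xN k) := by
  rw [xN, dif_pos h]
  exact (exists_node k h).choose_spec

theorem π_fixes (x : X) : ((π x : TT) : P275) 0 = 0 := (mem_X.1 x.2).2.2.1

/-- The elements fixing the first `l + 1` points. -/
def Fix (l : ℕ) : Subgroup TT where
  carrier := {g | ∀ v : Fin 275, v.1 ≤ l → (g : P275) v = v}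
  one_mem' := fun _ _ => rfl
  mul_mem' := fun {a b} ha hb v hv => by
    show (a : P275) ((b : P275) v) = v
    rw [hb v hv, ha v hv]
  inv_mem' := fun {a} ha v hv => by
    show ((a : P275))⁻¹ v = v
    exact (Equiv.Perm.inv_eq_iff_eq).2 (ha v hv).symm

theorem mem_Fix {l : ℕ} {g : TT} : g ∈ Fix l ↔ ∀ v : Fin 275, v.1 ≤ l → (g : P275) v = v := Iff.rfl

theorem mem_Fix_zero {g : TT} : g ∈ Fix 0 ↔ (g : P275) 0 = 0 :=
  ⟨fun h => h 0 le_rfl, fun h v hv => by
    obtain rfl : v = 0 := Fin.ext (by simpa using hv)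
    exact h⟩

theorem rep_inv_mul_mem (g : TT) : (R ((g : P275) 0))⁻¹ * g ∈ Fix 0 := by
  rw [mem_Fix_zero, Subgroup.coe_mul, Subgroup.coe_inv, Equiv.Perm.mul_apply, Equiv.Perm.inv_eq_iff_eq, R_zero]

theorem card_Fix_zero : Nat.card (Fix 0) = 3265920 := by
  let e : TT ≃ Fin 275 × Fix 0 :=
    { toFun := fun g => ((g : P275) 0, ⟨_, rep_inv_mul_mem g⟩)
      invFun := fun yh => R yh.1 * yh.2
      left_inv := fun g => by simp
      right_inv := fun ⟨y, h, hh⟩ => by
        have : ((R y * h : TT) : P275) 0 = y := by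
          rw [Subgroup.coe_mul, Equiv.Perm.mul_apply, mem_Fix_zero.1 hh, R_zero]
        refine Prod.ext this (Subtype.ext ?_)
        show (R _)⁻¹ * (R y * h) = h
        rw [this, inv_mul_cancel_left] }
  have h := Nat.card_congr e
  rw [Nat.card_prod, Nat.card_fin, card_TT] at h
  omega

/-- The transversal of a level. -/
def lev (l : ℕ) : List ℕ := Data.stabLevels.getD l []

/-- The check of a level. -/
def levB (l : ℕ) : Bool :=
  ((lev l).all fun n => decide (n < 463) && allB (l + 1) fun j => pT (tT275 n) j == j) &&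
    decide (((lev l).map fun n => pT (tT275 n) (l + 1)).Nodup)

theorem lev_ok : ∀ l : Fin 4, levB l = true := by decide +kernel

theorem lev_lengths : (lev 0).length = 162 ∧ (lev 1).length = 105 ∧ (lev 2).length = 64 ∧ (lev 3).length = 3 := by
  decide +kernel

theorem lev_facts {l : ℕ} (hl : l < 4) :
    (∀ n ∈ lev l, n < 463 ∧ π (xN n) ∈ Fix l) ∧ ((lev l).map fun n => pT (tT275 n) (l + 1)).Nodup := by
  have h := lev_ok ⟨l, hl⟩
  simp only [levB, Bool.and_eq_true, List.all_eq_true, decide_eq_true_eq] at h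
  refine ⟨fun n hn => ⟨(h.1 n hn).1, fun v hv => Fin.ext ?_⟩, h.2⟩
  rw [(xN_spec (h.1 n hn).1).2 v]
  exact beq_iff_eq.1 (allB_spec (h.1 n hn).2 v (by omega))

/-- The product map of a level. -/
noncomputable def levMap {l : ℕ} (hl : l < 4) (p : Fin (lev l).length × Fix (l + 1)) : Fix l :=
  ⟨π (xN ((lev l).get p.1)) * p.2, mul_mem ((lev_facts hl).1 _ (List.get_mem _ _)).2
    fun v hv => mem_Fix.1 p.2.2 v (hv.trans (Nat.le_succ l))⟩

theorem levMap_injective {l : ℕ} (hl : l < 4) : Function.Injective (levMap hl) := by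
  obtain ⟨hmem, hnd⟩ := lev_facts hl
  rintro ⟨i, r, hr⟩ ⟨j, s, hs⟩ e
  have e : π (xN ((lev l).get i)) * r = π (xN ((lev l).get j)) * s := congrArg Subtype.val e
  have hv : (⟨l + 1, by omega⟩ : Fin 275).1 ≤ l + 1 := le_rfl
  have hval : ∀ (k : Fin (lev l).length) (t : TT), t ∈ Fix (l + 1) →
      (((π (xN ((lev l).get k)) * t : TT) : P275) ⟨l + 1, by omega⟩).1 = pT (tT275 ((lev l).get k)) (l + 1) := by
    intro k t ht
    rw [Subgroup.coe_mul, Equiv.Perm.mul_apply, mem_Fix.1 ht _ hv,
      (xN_spec (hmem _ (List.get_mem _ _)).1).2]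
  have h1 := hval i r hr
  rw [e, hval j s hs] at h1
  have hij : i = j := by
    refine Fin.ext ((hnd.getElem_inj_iff (i := i.1) (j := j.1) (hi := by simp) (hj := by simp)).1 ?_)
    simpa using h1.symm
  subst hij
  exact Prod.ext rfl (Subtype.ext (mul_left_cancel e))

theorem card_step {l : ℕ} (hl : l < 4) : (lev l).length * Nat.card (Fix (l + 1)) ≤ Nat.card (Fix l) := by
  have h := Nat.card_le_card_of_injective _ (levMap_injective hl)
  rwa [Nat.card_prod, Nat.card_fin] at h

theorem card_Fix :
    Nat.card (Fix 1) = 20160 ∧ Nat.card (Fix 2) = 192 ∧ Nat.card (Fix 3) = 3 ∧ Nat.card (Fix 4) = 1 := by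
  have h0 := card_Fix_zero
  obtain ⟨l0, l1, l2, l3⟩ := lev_lengths
  have s0 := card_step (l := 0) (by norm_num)
  have s1 := card_step (l := 1) (by norm_num)
  have s2 := card_step (l := 2) (by norm_num)
  have s3 := card_step (l := 3) (by norm_num)
  simp only [Nat.reduceAdd] at s0 s1 s2 s3
  rw [l0] at s0
  rw [l1] at s1
  rw [l2] at s2
  rw [l3] at s3
  have : 0 < Nat.card (Fix 4) := Nat.card_pos
  omega

theorem Fix_le_range {l : ℕ} (hl : l < 4)
    (hc : Nat.card (Fix l) = (lev l).length * Nat.card (Fix (l + 1))) (hle : Fix (l + 1) ≤ π.range) :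
    Fix l ≤ π.range := by
  intro g hg
  obtain ⟨⟨i, r⟩, hp⟩ := ((Nat.bijective_iff_injective_and_card (levMap hl)).2
    ⟨levMap_injective hl, by rw [Nat.card_prod, Nat.card_fin, hc]⟩).2 ⟨g, hg⟩
  rw [← show π (xN ((lev l).get i)) * r.1 = g from congrArg Subtype.val hp]
  exact mul_mem ⟨_, rfl⟩ (hle r.2)

theorem range_π : π.range = Fix 0 := by
  refine le_antisymm ?_ ?_
  · rintro _ ⟨x, rfl⟩
    exact mem_Fix_zero.2 (π_fixes x)
  obtain ⟨h1, h2, h3, h4⟩ := card_Fix
  obtain ⟨l0, l1, l2, l3⟩ := lev_lengths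
  have t4 : Fix (3 + 1) ≤ π.range := by
    rw [Subgroup.eq_bot_of_card_eq (Fix 4) h4]
    exact bot_le
  have t3 : Fix (2 + 1) ≤ π.range := Fix_le_range (by norm_num) (by rw [l3, h3, h4]) t4
  have t2 : Fix (1 + 1) ≤ π.range := Fix_le_range (by norm_num) (by rw [l2, h2, h3]) t3
  have t1 : Fix (0 + 1) ≤ π.range := Fix_le_range (by norm_num) (by rw [l1, h1, h2]) t2
  exact Fix_le_range (by norm_num) (by rw [l0, card_Fix_zero, h1]) t1

/-- Five points form a base. -/
theorem base_five {g h : TT} (e : ∀ v : Fin 275, v.1 < 5 → (g : P275) v = (h : P275) v) : g = h := by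
  have hm : g⁻¹ * h ∈ Fix 4 := fun v hv => by
    rw [Subgroup.coe_mul, Subgroup.coe_inv, Equiv.Perm.mul_apply, Equiv.Perm.inv_eq_iff_eq, e v (by omega)]
  rw [Subgroup.eq_bot_of_card_eq (Fix 4) card_Fix.2.2.2, Subgroup.mem_bot, inv_mul_eq_one] at hm
  exact hm

theorem reps_bijective : Function.Bijective fun i => (R i : TT ⧸ π.range) := by
  refine ⟨fun i j e => ?_, fun q => ?_⟩
  · have h : (R i)⁻¹ * R j ∈ π.range := QuotientGroup.eq.1 e
    rw [range_π, mem_Fix_zero, Subgroup.coe_mul, Subgroup.coe_inv, Equiv.Perm.mul_apply,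
      Equiv.Perm.inv_eq_iff_eq, R_zero, R_zero] at h
    exact h.symm
  · obtain ⟨g, rfl⟩ := QuotientGroup.mk_surjective q
    refine ⟨(g : P275) 0, QuotientGroup.eq.2 ?_⟩
    rw [range_π]
    exact rep_inv_mul_mem g

/-! ### Coordinates -/

/-- The element of a list of nodes. -/
noncomputable def xC (l : List ℕ) : X := (l.map xN).prod

/-- The image of a point under the element of a list of nodes. -/
def lowW (l : List ℕ) (v : ℕ) : ℕ := l.foldr (fun n x => pT (tT275 n) x) v

/-- The coordinates of a vector under the element of a list of nodes. -/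
def topW (l : List ℕ) (w : ℕ) : ℕ := l.foldr (fun n x => lapp (cT n) x) w

theorem xC_low : ∀ l : List ℕ, (∀ n ∈ l, n < 463) → ∀ v : Fin 275,
    (((π (xC l) : TT) : P275) v).1 = lowW l v.1
  | [], _, v => by simp [xC, lowW]
  | n :: l, h, v => by
    have e : xC (n :: l) = xN n * xC l := by simp [xC]
    rw [e, map_mul, Subgroup.coe_mul, Equiv.Perm.mul_apply, (xN_spec (h n (List.mem_cons_self ..))).2,
      xC_low l (fun k hk => h k (List.mem_cons_of_mem _ hk))]
    rfl

theorem xC_top : ∀ l : List ℕ, (∀ n ∈ l, n < 463) → ∀ i : Fin 378,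
    vc ((xC l).1.1 i).1 = topW l (vc i)
  | [], _, i => by simp [xC, topW]
  | n :: l, h, i => by
    have e : xC (n :: l) = xN n * xC l := by simp [xC]
    rw [e]
    show vc ((xN n).1.1 ((xC l).1.1 i)).1 = _
    rw [(xN_spec (h n (List.mem_cons_self ..))).1, xC_top l (fun k hk => h k (List.mem_cons_of_mem _ hk))]
    rfl

/-- The element with given coordinates. -/
noncomputable def gC (c : List ℕ) : TT := R (Fin.ofNat 275 (c.headD 0)) * π (xC c.tail)

/-- The image of a point under the element with given coordinates. -/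
def appC (c : List ℕ) (v : ℕ) : ℕ := pT (Rt (c.headD 0 % 275)) (lowW c.tail v)

/-- The check of coordinates. -/
def okC (c : List ℕ) : Bool := c.tail.all fun n => decide (n < 463)

theorem gC_apply {c : List ℕ} (h : okC c = true) (v : Fin 275) : ((gC c : P275) v).1 = appC c v.1 := by
  simp only [okC, List.all_eq_true, decide_eq_true_eq] at h
  rw [gC, Subgroup.coe_mul, Equiv.Perm.mul_apply, R_tab, xC_low _ h]
  rfl

/-- The value of a word. -/
def evW (es : List (List ℕ)) (w : List ℕ) (v : ℕ) : ℕ := w.foldr (fun k x => appC (es.getD k []) x) v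

theorem map_evW {es : List (List ℕ)} (h : ∀ k < es.length, okC (es.getD k []) = true) :
    ∀ w : List ℕ, (∀ k ∈ w, k < es.length) → ∀ v : Fin 275,
      (((W (fun k => gC (es.getD k [])) w : TT) : P275) v).1 = evW es w v.1
  | [], _, v => by rw [W_nil]; rfl
  | a :: w, hw, v => by
    rw [W_cons, Subgroup.coe_mul, Equiv.Perm.mul_apply, gC_apply (h a (hw a (List.mem_cons_self ..))),
      map_evW h w (fun k hk => hw k (List.mem_cons_of_mem _ hk))]
    rfl

/-- Two words are equal. -/
def eqB (es : List (List ℕ)) (a b : List ℕ) : Bool :=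
  a.all (fun k => decide (k < es.length)) && b.all (fun k => decide (k < es.length)) &&
    allB 5 fun v => evW es a v == evW es b v

theorem of_eqB {es : List (List ℕ)} (h : ∀ k < es.length, okC (es.getD k []) = true) {a b : List ℕ}
    (he : eqB es a b = true) : W (fun k => gC (es.getD k [])) a = W (fun k => gC (es.getD k [])) b := by
  simp only [eqB, Bool.and_eq_true, List.all_eq_true, decide_eq_true_eq] at he
  refine base_five fun v hv => Fin.ext ?_
  rw [map_evW h a he.1.1, map_evW h b he.1.2]
  exact beq_iff_eq.1 (allB_spec he.2 v.1 hv)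

/-- The image of a point in the type of points. -/
def appF (es : List (List ℕ)) (k : ℕ) (v : Fin 275) : Fin 275 := Fin.ofNat 275 (appC (es.getD k []) v.1)

/-- The check of the rules, conjugations, and orbits. -/
def realB (C : Cert) (es : List (List ℕ)) (orbs : List (List ℕ × List (List ℕ))) : Bool :=
  decide (C.R.n ≤ es.length) && ((List.range es.length).all fun k => okC (es.getD k [])) &&
  ((List.range C.R.n).all fun i => eqB es (List.replicate C.R.p i) (C.R.pwWord i) &&
    (C.R.pwWord i).all (fun k => decide (i < k ∧ k < C.R.n)) &&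
    ((List.range' (i + 1) (C.R.n - (i + 1))).all fun j => eqB es [j, i] (i :: C.R.cjWord i j) &&
      (C.R.cjWord i j).all fun k => decide (i < k ∧ k < C.R.n))) &&
  (C.fus.zipIdx.all fun qp => qp.1.1.all fun ab => eqB es ((C.R.n + qp.2) :: ab.1) (ab.2 ++ [C.R.n + qp.2])) &&
  ((List.range C.R.n).all fun i =>
    let O := ((orbs.getD i ([], [])).2).map fun t => t.map (Fin.ofNat 275)
    let b := ((orbs.getD i ([], [])).1).map (Fin.ofNat 275)
    O.contains b &&
    ((List.range' (i + 1) (C.R.n - (i + 1))).all fun j => O.all fun t => O.contains (t.map (appF es j))) &&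
    !(O.contains (b.map (appF es i))))

theorem real_of_check {C : Cert} {es : List (List ℕ)} {orbs : List (List ℕ × List (List ℕ))}
    (h : realB C es orbs = true) : ∃ g hh : ℕ → TT, C.Real g hh := by
  simp only [realB, Bool.and_eq_true, List.all_eq_true, decide_eq_true_eq, List.mem_range,
    List.mem_range'_1, Bool.not_eq_true'] at h
  obtain ⟨⟨⟨⟨hn, hok⟩, hrules⟩, hfus⟩, horb⟩ := h
  set g : ℕ → TT := fun k => gC (es.getD k [])
  have happ : ∀ k < es.length, ∀ v : Fin 275, (g k : P275) v = appF es k v := fun k hk v => by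
    refine Fin.ext ?_
    show _ = appC (es.getD k []) v.1 % 275
    rw [← gC_apply (hok k hk) v, Nat.mod_eq_of_lt (Fin.is_lt _)]
  refine ⟨g, fun q => g (C.R.n + q), ⟨?_, ?_, ?_, ?_, ?_⟩⟩
  · intro i hi
    rw [← W_replicate]
    exact of_eqB hok (hrules i hi).1.1
  · intro i j hij hj
    have := of_eqB hok ((hrules i (hij.trans hj)).2 j ⟨hij, by omega⟩).1
    rwa [W_cons, W_cons, W_nil, mul_one, W_cons] at this
  · intro qp hqp ab hab
    have := of_eqB hok (hfus qp hqp ab hab)
    rwa [W_cons, W_append, W_cons, W_nil, mul_one] at this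
  · intro i hi
    refine ⟨fun k hk => ?_, fun j hij hj k hk => ?_⟩
    · exact (hrules i hi).1.2 k hk
    · exact ((hrules i hi).2 j ⟨hij, by omega⟩).2 k hk
  · intro i hi
    obtain ⟨⟨hb, hcl⟩, hout⟩ := horb i hi
    refine not_mem_closure (fun (x : TT) t => t.map (x : P275))
      (fun t => by simp) (fun x y t => by simp [List.map_map, Function.comp_def])
      (((orbs.getD i ([], [])).2).map fun t => t.map (Fin.ofNat 275))
      (b := ((orbs.getD i ([], [])).1).map (Fin.ofNat 275)) (List.mem_of_elem_eq_true hb) ?_ ?_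
    · rintro _ ⟨j, hj, rfl⟩ t ht
      have := hcl j ⟨hj.1, by have := hj.2; omega⟩ t ht
      show List.map _ t ∈ _
      rw [List.map_congr_left fun v _ => happ j (by have := hj.2; omega) v]
      exact List.mem_of_elem_eq_true this
    · show List.map _ _ ∉ _
      rw [List.map_congr_left fun v _ => happ i (by omega) v]
      intro hmem
      rw [List.contains_iff_mem.2 hmem] at hout
      exact Bool.noConfusion hout

end Cfsg.Agent.Lib.McLMult
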