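import Cfsg.Agent.Lib.McLMult.Group
import Cfsg.Agent.Lib.McLMult.CoverData
import Cfsg.Agent.Lib.Cores.CentralTransfer
import Cfsg.Agent.Lib.PcMult.Bounded
import Cfsg.Agent.Lib.Transfer.SplitLifts
import Cfsg.Agent.GroupStructure3.McLOut.Main

/-!
The multiplier of the McLaughlin group has order three.
-/

set_option autoImplicit false
set_option maxRecDepth 100000
set_option maxHeartbeats 1000000
set_option Elab.async false

namespace Cfsg.Agent.Lib.McLMult

open Cfsg Cfsg.Agent.GroupStructure3 Cfsg.Agent.LeechAut Cfsg.Agent.Lib.PcMult Cfsg.Agent.Transfer.SplitLifts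
open Cfsg.Agent.GroupStructure3.McLInv (pT allB allB_spec IsT TT card_TT)
open scoped commutatorElement

local notation "P275" => Equiv.Perm (Fin 275)

/-! ### The group -/

/-- The group on the points is the stabiliser in the Leech lattice. -/
theorem nonempty_TT : Nonempty (Spor.McL ≃* TT) := by
  obtain ⟨E⟩ := McLOut.nonempty_equiv
  exact ⟨E.trans (MonoidHom.ofInjective McLOut.toPerm_injective)⟩

theorem simple_TT : IsSimpleGroup TT := by
  haveI := McL.isSimple_G
  exact (MonoidHom.ofInjective McLOut.toPerm_injective).isSimpleGroup_congr.1 inferInstance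

theorem perfect_TT : commutator TT = ⊤ := by
  haveI := simple_TT
  rcases IsSimpleGroup.eq_bot_or_eq_top_of_normal (commutator TT) inferInstance with h | h
  · exfalso
    have hcomm : ∀ a b : TT, a * b = b * a := fun a b => by
      have : ⁅a, b⁆ ∈ commutator TT := by
        rw [commutator_def]
        exact Subgroup.commutator_mem_commutator (Subgroup.mem_top a) (Subgroup.mem_top b)
      rw [h, Subgroup.mem_bot, commutatorElement_eq_one_iff_mul_comm] at this
      exact this
    letI : CommGroup TT := { (inferInstance : Group TT) with mul_comm := hcomm }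
    have := IsSimpleGroup.prime_card (α := TT)
    rw [card_TT] at this
    exact Nat.not_prime_mul (a := 2) (b := 449064000) (by norm_num) (by norm_num) this
  · exact h

/-! ### The upper bound -/

theorem checkTwo : Data.CTwo.check (vecOps 2) = true := by decide +kernel

theorem checkThree : checkM Data.CThree (vecOps 9) 9 Data.resThree Data.multThree Data.torThree 3 = true := by
  decide +kernel

theorem checkFive : Data.CFive.check (vecOps 5) = true := by decide +kernel

theorem realTwo : realB Data.CTwo Data.eltsTwo Data.orbsTwo = true := by decide +kernel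
theorem realThree : realB Data.CThree Data.eltsThree Data.orbsThree = true := by decide +kernel
theorem realFive : realB Data.CFive Data.eltsFive Data.orbsFive = true := by decide +kernel

theorem factor {p k r : ℕ} (hp : p.Prime) (h : 898128000 = p ^ k * r) (hr : ¬ p ∣ r) :
    (Nat.card TT).factorization p = k := by
  rw [card_TT, h, Nat.factorization_mul (pow_ne_zero _ hp.ne_zero) (show r ≠ 0 from fun e => hr (by simp [e])),
    Finsupp.coe_add, Pi.add_apply, hp.factorization_pow, Finsupp.single_eq_same,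
    Nat.factorization_eq_zero_of_not_dvd hr, add_zero]

theorem factor_two : (Nat.card TT).factorization 2 = 7 :=
  factor Nat.prime_two (r := 7016625) (by norm_num) (by norm_num)

theorem factor_three : (Nat.card TT).factorization 3 = 6 :=
  factor Nat.prime_three (r := 1232000) (by norm_num) (by norm_num)

theorem factor_five : (Nat.card TT).factorization 5 = 3 :=
  factor Nat.prime_five (r := 7185024) (by norm_num) (by norm_num)

theorem prime_sq_dvd {p : ℕ} (hp : p.Prime) (h : p ^ 2 ∣ Nat.card TT) : p = 2 ∨ p = 3 ∨ p = 5 := by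
  have hd : p ∣ 2 ^ 7 * 3 ^ 6 * 5 ^ 3 * 7 * 11 :=
    (dvd_pow_self p two_ne_zero).trans (by rw [card_TT] at h; norm_num; exact h)
  rw [card_TT] at h
  have e : ∀ q k : ℕ, q.Prime → p ∣ q ^ k → p = q := fun q k hq hh =>
    (Nat.prime_dvd_prime_iff_eq hp hq).1 (hp.dvd_of_dvd_pow hh)
  rcases (Nat.Prime.dvd_mul hp).1 hd with hd | hd
  · rcases (Nat.Prime.dvd_mul hp).1 hd with hd | hd
    · rcases (Nat.Prime.dvd_mul hp).1 hd with hd | hd
      · rcases (Nat.Prime.dvd_mul hp).1 hd with hd | hd
        · exact Or.inl (e 2 7 Nat.prime_two hd)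
        · exact Or.inr (Or.inl (e 3 6 Nat.prime_three hd))
      · exact Or.inr (Or.inr (e 5 3 Nat.prime_five hd))
    · obtain rfl := (Nat.prime_dvd_prime_iff_eq hp (by norm_num)).1 hd
      norm_num at h
  · obtain rfl := (Nat.prime_dvd_prime_iff_eq hp (by norm_num)).1 hd
    norm_num at h

theorem split_part {p : ℕ} [Fact p.Prime] {C : Cert} (hp : C.R.p = p)
    (hC : C.check (vecOps p) = true) {g h : ℕ → TT} (hR : C.Real g h)
    (hN : (Nat.card TT).factorization p = C.R.n) {Γ : Type} [Group Γ] [Finite Γ] (σ : Γ →* TT)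
    (hc : σ.ker ≤ Subgroup.center Γ) (hσ : Function.Surjective σ) (hex : ∀ z, σ z = 1 → z ^ p = 1)
    (P : Sylow p Γ) : Nat.card ↥(⁅(P : Subgroup Γ), (P : Subgroup Γ)⁆ ⊓ σ.ker) ≤ 1 := by
  subst hp
  rw [PcMult.split (O := vecOps C.R.p) Fact.out hc hσ hex
    (fun K _ hK τ => ⟨_, vecOps_valid hK τ⟩) hC hR hN rfl P, Subgroup.card_bot]

theorem not_nine_dvd {Γ : Type} [Group Γ] [Finite Γ] (σ : Γ →* TT) (hc : σ.ker ≤ Subgroup.center Γ)
    (hsur : Function.Surjective σ) (hd : σ.ker ≤ commutator Γ) : ¬ 3 ^ 2 ∣ Nat.card σ.ker := by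
  obtain ⟨g, h, r⟩ := real_of_check realThree
  exact not_pow_dvd_ker (G := TT) (p := 3) (k := 2) (d := 3) (by norm_num)
        (fun Γ' _ _ σ' hc' hs' he' P => bounded (C := Data.CThree) (O := vecOps 9) (m := 9) (d := 3) (p := 3)
          (by norm_num) (by norm_num) Nat.prime_three hc' hs' he' (fun K _ hK τ => ⟨_, vecOps_valid hK τ⟩)
          checkThree r factor_three rfl P) σ hc hsur hd

theorem prime_eq_three {Γ : Type} [Group Γ] [Finite Γ] (σ : Γ →* TT) (hc : σ.ker ≤ Subgroup.center Γ)
    (hsur : Function.Surjective σ) (hd : σ.ker ≤ commutator Γ) :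
    ∀ p : ℕ, p.Prime → p ∣ Nat.card σ.ker → p = 3 := by
  obtain ⟨g2, h2, r2⟩ := real_of_check realTwo
  obtain ⟨g5, h5, r5⟩ := real_of_check realFive
  intro p hp hpd
  haveI := Fact.mk hp
  by_contra hp3
  by_cases hpG : p ^ 2 ∣ Nat.card TT
  swap
  · exact Suzuki.Multiplier.no_prime_in_kernel σ hc hd default (cyclic_criterion hc hsur hpG default) hpd
  rcases prime_sq_dvd hp hpG with rfl | rfl | rfl
  · exact not_pow_dvd_ker (G := TT) (p := 2) (k := 1) (d := 1) (by norm_num)
      (fun Γ' _ _ σ' hc' hs' he' P => split_part (p := 2) (C := Data.CTwo) rfl checkTwo r2 factor_two σ' hc' hs'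
        (fun z hz => by simpa using he' z hz) P) σ hc hsur hd (by rwa [pow_one])
  · exact hp3 rfl
  · exact not_pow_dvd_ker (G := TT) (p := 5) (k := 1) (d := 1) (by norm_num)
      (fun Γ' _ _ σ' hc' hs' he' P => split_part (p := 5) (C := Data.CFive) rfl checkFive r5 factor_five σ' hc' hs'
        (fun z hz => by simpa using he' z hz) P) σ hc hsur hd (by rwa [pow_one])

/-! ### The scalars -/

/-- The images of the coordinates under scalar multiplication. -/
def omCols : ℕ := (List.range 12).foldr (fun b a => (mulw (1 <<< b) <<< (12 * b)) + a) 0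

theorem vc_om : ∀ i : Fin 378, vc (om i) = lapp omCols (vc i) := by decide +kernel

theorem compat_omP : Compat (omP, 1) := by
  refine ⟨fun i => rfl, fun i j k h => ?_, rfl, fun i v => ?_⟩
  · show vc (omP i).1 ^^^ vc (omP j).1 = vc (omP k).1
    rw [omP_apply, omP_apply, omP_apply, vc_om, vc_om, vc_om, ← lapp_xor, h]
  · show (sMask ((omP i).1 / 3)).testBit v.1 = _
    rw [omP_apply, show om i.1 / 3 = i.1 / 3 by simp only [om]; omega]

/-- The scalar. -/
noncomputable def scal : X := ⟨(omP, 1), mem_X.2 compat_omP⟩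

theorem scal_pow (c : ℕ) (i : Fin 378) : ((scal ^ c : X).1.1 i).1 = sh c i.1 := by
  induction c with
  | zero => show i.1 = _; simp only [sh]; omega
  | succ c ih =>
    rw [pow_succ']
    show (omP ((scal ^ c : X).1.1 i)).1 = _
    rw [omP_apply, ih]
    simp only [om, sh]
    omega

theorem π_scal_pow (c : ℕ) : π (scal ^ c) = 1 := by
  rw [map_pow, show π scal = 1 from rfl, one_pow]

theorem scal_ext {x : X} {c : ℕ} (h : π x = 1) (hv : ∀ i, (x.1.1 i).1 = sh c i.1) : x = scal ^ c :=
  Subtype.ext (Prod.ext (Equiv.ext fun i => Fin.ext ((hv i).trans (scal_pow c i).symm))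
    (h.trans (π_scal_pow c).symm))

theorem scal_three : scal ^ 3 = 1 :=
  (scal_ext (map_one π) fun i => by show i.1 = _; simp only [sh]; omega).symm

/-- The embedding of the scalars. -/
noncomputable def ι : Multiplicative (ZMod 3) →* X where
  toFun t := scal ^ t.toAdd.val
  map_one' := pow_zero _
  map_mul' a b := by
    rw [toAdd_mul, ZMod.val_add, ← pow_eq_pow_mod _ scal_three, pow_add]

theorem ι_apply (t : Multiplicative (ZMod 3)) : ι t = scal ^ t.toAdd.val := rfl

theorem ι_injective : Function.Injective ι := by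
  intro s t e
  have h := congrArg (fun x : X => (x.1.1 0).1) e
  simp only [ι_apply, scal_pow, sh] at h
  refine Multiplicative.toAdd.injective (ZMod.val_injective 3 ?_)
  have := ZMod.val_lt s.toAdd
  have := ZMod.val_lt t.toAdd
  simp at h
  omega

theorem exists_scalar {x : X} (h : π x = 1) : ∃ t : ZMod 3, x = ι (Multiplicative.ofAdd t) := by
  have hv := scalar_of_fixed (mem_X.1 x.2) (show ((x.1.2 : TT) : P275) = 1 by
    rw [show x.1.2 = π x from rfl, h]; rfl)
  refine ⟨(((x.1.1 0).1 % 3 : ℕ) : ZMod 3), ?_⟩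
  rw [ι_apply, toAdd_ofAdd, ZMod.val_natCast, Nat.mod_mod]
  exact scal_ext h hv

theorem ker_π : π.ker = ι.range := by
  refine le_antisymm (fun x hx => ?_) ?_
  · obtain ⟨t, rfl⟩ := exists_scalar (MonoidHom.mem_ker.1 hx)
    exact ⟨_, rfl⟩
  · rintro _ ⟨t, rfl⟩
    exact MonoidHom.mem_ker.2 (π_scal_pow _)

theorem ι_central (t : Multiplicative (ZMod 3)) (y : X) : ι t * y = y * ι t := by
  refine Commute.pow_left ?_ _
  refine Subtype.ext (Prod.ext (Equiv.ext fun i => ?_) ?_)
  · exact ((mem_X.1 y.2).1 i).symm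
  · show (1 : TT) * y.1.2 = y.1.2 * 1
    rw [one_mul, mul_one]

/-! ### The cover -/

/-- The image of a point under the first element. -/
def ja (i : Fin 275) : Fin 275 := Fin.ofNat 275 (appC Data.coverA i.1)

/-- The image of a point under the second element. -/
def jb (i : Fin 275) : Fin 275 := Fin.ofNat 275 (appC Data.coverB i.1)

/-- The component of the first element. -/
noncomputable def xa (i : Fin 275) : X := xC (Data.compA.getD i.1 [])

/-- The component of the second element. -/
noncomputable def xb (i : Fin 275) : X := xC (Data.compB.getD i.1 [])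

/-- The left-hand word. -/
def wL (i : Fin 275) : List ℕ := Data.compA.getD (jb i).1 [] ++ Data.compB.getD i.1 []

/-- The right-hand word. -/
def wR (i : Fin 275) : List ℕ := Data.compB.getD (ja i).1 [] ++ Data.compA.getD i.1 []

/-- The scalar between the two words. -/
def dN (i : Fin 275) : ℕ :=
  let L := topW (wL i) (vc 0)
  let R' := topW (wR i) (vc 0)
  if L = R' then 0 else if L = mulw R' then 1 else 2

theorem cover_ok : okC Data.coverA = true ∧ okC Data.coverB = true ∧
    (∀ v : Fin 5, appC Data.coverA (appC Data.coverB v.1) = appC Data.coverB (appC Data.coverA v.1)) := by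
  decide +kernel

theorem comp_lt : ∀ i : Fin 275,
    (∀ n ∈ Data.compA.getD i.1 [], n < 463) ∧ ∀ n ∈ Data.compB.getD i.1 [], n < 463 := by
  decide +kernel

/-- The check of the components. -/
def compB' (i : Fin 275) : Bool :=
  allB 5 fun v =>
    appC Data.coverA (pT (Rt i.1) v) == pT (Rt (ja i).1) (lowW (Data.compA.getD i.1 []) v) &&
    appC Data.coverB (pT (Rt i.1) v) == pT (Rt (jb i).1) (lowW (Data.compB.getD i.1 []) v) &&
    lowW (wL i) v == lowW (wR i) v

theorem comp_ok : ∀ i : Fin 275, compB' i = true := by decide +kernel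

theorem cover_comm : gC Data.coverA * gC Data.coverB = gC Data.coverB * gC Data.coverA := by
  obtain ⟨ha, hb, h⟩ := cover_ok
  refine base_five fun v hv => Fin.ext ?_
  rw [Subgroup.coe_mul, Subgroup.coe_mul, Equiv.Perm.mul_apply, Equiv.Perm.mul_apply, gC_apply ha, gC_apply hb,
    gC_apply hb, gC_apply ha]
  exact h ⟨v.1, hv⟩

theorem comp_spec (i : Fin 275) {v : ℕ} (hv : v < 5) :
    appC Data.coverA (pT (Rt i.1) v) = pT (Rt (ja i).1) (lowW (Data.compA.getD i.1 []) v) ∧
    appC Data.coverB (pT (Rt i.1) v) = pT (Rt (jb i).1) (lowW (Data.compB.getD i.1 []) v) ∧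
    lowW (wL i) v = lowW (wR i) v := by
  have h := allB_spec (comp_ok i) v hv
  simp only [Bool.and_eq_true, beq_iff_eq] at h
  exact ⟨h.1.1, h.1.2, h.2⟩

theorem ha (i : Fin 275) : gC Data.coverA * R i = R (ja i) * π (xa i) := by
  refine base_five fun v hv => Fin.ext ?_
  rw [Subgroup.coe_mul, Subgroup.coe_mul, Equiv.Perm.mul_apply, Equiv.Perm.mul_apply, gC_apply cover_ok.1,
    R_tab, R_tab, xa, xC_low _ (comp_lt i).1]
  exact (comp_spec i hv).1

theorem hb (i : Fin 275) : gC Data.coverB * R i = R (jb i) * π (xb i) := by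
  refine base_five fun v hv => Fin.ext ?_
  rw [Subgroup.coe_mul, Subgroup.coe_mul, Equiv.Perm.mul_apply, Equiv.Perm.mul_apply, gC_apply cover_ok.2.1,
    R_tab, R_tab, xb, xC_low _ (comp_lt i).2]
  exact (comp_spec i hv).2.1

theorem xC_append (a b : List ℕ) : xC (a ++ b) = xC a * xC b := by simp [xC]

theorem hd (i : Fin 275) :
    xa (jb i) * xb i = ι (Multiplicative.ofAdd ((dN i : ℕ) : ZMod 3)) * (xb (ja i) * xa i) := by
  have e1 : xa (jb i) * xb i = xC (wL i) := (xC_append _ _).symm
  have e2 : xb (ja i) * xa i = xC (wR i) := (xC_append _ _).symm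
  rw [e1, e2]
  have hl : ∀ n ∈ wL i, n < 463 := fun n hn =>
    (List.mem_append.1 hn).elim ((comp_lt (jb i)).1 n) ((comp_lt i).2 n)
  have hr : ∀ n ∈ wR i, n < 463 := fun n hn =>
    (List.mem_append.1 hn).elim ((comp_lt (ja i)).2 n) ((comp_lt i).1 n)
  have hπ : π (xC (wL i) * (xC (wR i))⁻¹) = 1 := by
    rw [map_mul, map_inv, mul_inv_eq_one]
    refine base_five fun v hv => Fin.ext ?_
    rw [xC_low _ hl, xC_low _ hr]
    exact (comp_spec i hv).2.2
  obtain ⟨t, ht⟩ := exists_scalar hπ
  have hmul : xC (wL i) = ι (Multiplicative.ofAdd t) * xC (wR i) := by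
    rw [← ht, inv_mul_cancel_right]
  rw [hmul]
  congr 2
  refine congrArg Multiplicative.ofAdd ?_
  have htop := xC_top _ hl 0
  rw [hmul] at htop
  have hj := xC_top _ hr 0
  change vc (((ι (Multiplicative.ofAdd t)).1.1 ((xC (wR i)).1.1 0)).1) = _ at htop
  rw [ι_apply, scal_pow, toAdd_ofAdd] at htop
  set j := (xC (wR i)).1.1 0 with hjdef
  obtain ⟨v1, v2, v3⟩ := vc_sh j
  obtain ⟨w1, w2, -⟩ := vc_sh (omP j)
  rw [omP_apply, v1] at w2
  rw [omP_apply, v1] at w1
  have ht3 := ZMod.val_lt t
  simp only [Fin.val_zero] at htop hj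
  have : dN i = t.val := by
    simp only [dN, ← htop, ← hj]
    have s0 : sh 0 j.1 = j.1 := by simp only [sh]; omega
    have s1 : sh 1 j.1 = om j.1 := rfl
    have s2 : sh 2 j.1 = om (om j.1) := by simp only [sh, om]; omega
    rcases (show t.val = 0 ∨ t.val = 1 ∨ t.val = 2 by omega) with e | e | e <;> rw [e]
    · rw [s0, if_pos rfl]
    · rw [s1, v1, if_neg (Ne.symm v2), if_pos rfl]
    · rw [s2, w1, if_neg (Ne.symm v3), if_neg (Ne.symm w2)]
  rw [this, ZMod.natCast_zmod_val]

theorem dN_sum : (∑ i : Fin 275, dN i) % 3 = 2 := by decide +kernel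

theorem exists_cover : ∃ (Γ : Type) (_ : Group Γ) (_ : Finite Γ) (σ : Γ →* TT),
    Cfsg.IsStemExtension σ ∧ Nonempty (σ.ker ≃* Multiplicative (ZMod 3)) := by
  refine Cfsg.Agent.Lib.Cores.CentralTransfer.exists_stem π ι ι_injective ker_π ι_central perfect_TT R
    reps_bijective (gC Data.coverA) (gC Data.coverB) cover_comm ja jb xa xb ha hb _ hd rfl ?_
  have hz : (∑ i : Fin 275, ((dN i : ℕ) : ZMod 3)) = 2 := by
    rw [← Nat.cast_sum, ← ZMod.natCast_mod, dN_sum]
    rfl
  rw [hz]
  refine (AddSubgroup.eq_top_iff' _).2 fun x => ⟨((2 * x.val : ℕ) : ℤ), ?_⟩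
  revert x
  decide

/-! ### The multiplier -/

theorem mult_TT : Cfsg.HasCyclicSchurMultiplier ↥TT 3 := by
  classical
  refine ⟨exists_cover, ?_⟩
  intro Γ _ _ σ hs
  obtain ⟨hsur, hc, hd⟩ := hs
  have h9 := not_nine_dvd σ hc hsur hd
  have hp := prime_eq_three σ hc hsur hd
  have hcard : Nat.card σ.ker ∣ 3 := by
    rw [Nat.dvd_iff_prime_pow_dvd_dvd]
    intro p k hp' hpk
    rcases k with _ | k
    · simp
    obtain rfl := hp p hp' ((dvd_pow_self p (by omega)).trans hpk)
    rcases k with _ | k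
    · simp
    · exact absurd ((pow_dvd_pow 3 (by omega)).trans hpk) h9
  haveI : IsCyclic σ.ker := by
    rcases (Nat.dvd_prime Nat.prime_three).1 hcard with h | h
    · haveI := (Nat.card_eq_one_iff_unique.1 h).1
      exact isCyclic_of_subsingleton
    · exact isCyclic_of_prime_card (p := 3) h
  let e := zmodCyclicMulEquiv (G := σ.ker) inferInstance
  let f : Multiplicative (ZMod 3) →* Multiplicative (ZMod (Nat.card σ.ker)) :=
    (ZMod.castHom hcard (ZMod (Nat.card σ.ker))).toAddMonoidHom.toMultiplicative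
  exact ⟨e.toMonoidHom.comp f, e.surjective.comp (ZMod.castHom_surjective hcard)⟩

theorem mult_three : Cfsg.HasCyclicSchurMultiplier ↥Spor.McL 3 := by
  obtain ⟨E⟩ := nonempty_TT
  obtain ⟨⟨Γ, i1, i2, σ, hs, ⟨e⟩⟩, h2⟩ := mult_TT
  have hker : ∀ {Γ' : Type} [Group Γ'] (τ : Γ' →* ↥TT), (E.symm.toMonoidHom.comp τ).ker = τ.ker :=
    fun τ => MonoidHom.ker_mulEquiv_comp τ E.symm
  refine ⟨⟨Γ, i1, i2, E.symm.toMonoidHom.comp σ, ⟨E.symm.surjective.comp hs.1, ?_, ?_⟩,
    ⟨(MulEquiv.subgroupCongr (hker σ)).trans e⟩⟩, ?_⟩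
  · rw [hker]; exact hs.2.1
  · rw [hker]; exact hs.2.2
  · intro Γ' _ _ τ hτ
    have hk : (E.toMonoidHom.comp τ).ker = τ.ker := MonoidHom.ker_mulEquiv_comp τ E
    obtain ⟨p, hp⟩ := h2 Γ' (E.toMonoidHom.comp τ)
      ⟨E.surjective.comp hτ.1, hk ▸ hτ.2.1, hk ▸ hτ.2.2⟩
    exact ⟨(MulEquiv.subgroupCongr hk).toMonoidHom.comp p, (MulEquiv.subgroupCongr hk).surjective.comp hp⟩

end Cfsg.Agent.Lib.McLMult
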