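import Mathlib
import Cfsg.Agent.GroupStructure3.McLInv.Basic
import Cfsg.Agent.Lib.McLMult.VecData

/-!
Permutations of the 378 vectors of the six-dimensional unitary space spanning the 126 lines, compatible
with permutations of the 275 points of the McLaughlin graph; the compatible pairs over the identity are scalars.
-/

set_option autoImplicit false
set_option maxRecDepth 100000
set_option maxHeartbeats 1000000

namespace Cfsg.Agent.Lib.McLMult

open Cfsg.Agent.GroupStructure3.McLInv (pT allB allB_spec)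

local notation "P275" => Equiv.Perm (Fin 275)
local notation "P378" => Equiv.Perm (Fin 378)

/-- The coordinates of a vector. -/
def vc (i : ℕ) : ℕ := (Data.vecCode >>> (12 * i)) % 4096

/-- The linear map of the binary space of coordinates with twelve packed images. -/
def lapp (c x : ℕ) : ℕ :=
  (List.range 12).foldr (fun b a => (if x.testBit b then (c >>> (12 * b)) % 4096 else 0) ^^^ a) 0

theorem xor_swap (P Q A B : ℕ) : (P ^^^ Q) ^^^ (A ^^^ B) = (P ^^^ A) ^^^ (Q ^^^ B) := by
  refine Nat.eq_of_testBit_eq fun i => ?_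
  simp only [Nat.testBit_xor]
  cases P.testBit i <;> cases Q.testBit i <;> cases A.testBit i <;> cases B.testBit i <;> rfl

theorem ite_xor (p q : Bool) (v : ℕ) :
    (if (p ^^ q) = true then v else 0) = (if p = true then v else 0) ^^^ (if q = true then v else 0) := by
  cases p <;> cases q <;> simp

theorem lapp_xor (c x y : ℕ) : lapp c (x ^^^ y) = lapp c x ^^^ lapp c y := by
  unfold lapp
  induction List.range 12 with
  | nil => simp
  | cons b l ih =>
    simp only [List.foldr_cons]
    rw [ih, Nat.testBit_xor, ite_xor, xor_swap]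

theorem lapp_zero (c : ℕ) : lapp c 0 = 0 := by
  have h := lapp_xor c 0 0
  rw [Nat.xor_self] at h
  rw [h, Nat.xor_self]

theorem lapp_comp {a b k : ℕ} (h : ∀ i < 12, lapp a ((b >>> (12 * i)) % 4096) = (k >>> (12 * i)) % 4096) (x : ℕ) :
    lapp a (lapp b x) = lapp k x := by
  suffices ∀ l : List ℕ, (∀ i ∈ l, i < 12) →
      lapp a (l.foldr (fun i r => (if x.testBit i then (b >>> (12 * i)) % 4096 else 0) ^^^ r) 0) =
        l.foldr (fun i r => (if x.testBit i then (k >>> (12 * i)) % 4096 else 0) ^^^ r) 0 from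
    this _ fun i hi => List.mem_range.1 hi
  intro l
  induction l with
  | nil => intro _; exact lapp_zero a
  | cons i l ih =>
    intro hl
    simp only [List.foldr_cons, lapp_xor]
    rw [ih fun j hj => hl j (List.mem_cons_of_mem _ hj)]
    cases x.testBit i
    · simp [lapp_zero]
    · simp [h i (hl i (List.mem_cons_self ..))]

/-- Multiplication of coordinates by the generator of the multiplicative group. -/
def mulw (x : ℕ) : ℕ :=
  ((x >>> 1) &&& 1365) ||| (((x &&& 1365) ^^^ ((x >>> 1) &&& 1365)) <<< 1)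

/-- The next multiple of a vector. -/
def om (i : ℕ) : ℕ := 3 * (i / 3) + (i % 3 + 1) % 3

/-- A multiple of a vector. -/
def sh (c i : ℕ) : ℕ := 3 * (i / 3) + (i % 3 + c) % 3

/-- The points attached to a line. -/
def sMask (p : ℕ) : ℕ := (Data.lineSets.getD p []).foldr (fun v a => a ||| 1 <<< v) 0

/-- Scalar multiplication as a permutation. -/
def omP : P378 where
  toFun i := ⟨om i.1, by have := i.2; simp only [om]; omega⟩
  invFun i := ⟨sh 2 i.1, by have := i.2; simp only [sh]; omega⟩
  left_inv i := Fin.ext (by simp only [om, sh]; omega)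
  right_inv i := Fin.ext (by simp only [om, sh]; omega)

theorem omP_apply (i : Fin 378) : (omP i : ℕ) = om i.1 := rfl

/-- Compatibility. -/
def Compat (x : P378 × P275) : Prop :=
  (∀ i, x.1 (omP i) = omP (x.1 i)) ∧
  (∀ i j k : Fin 378, vc i ^^^ vc j = vc k → vc (x.1 i) ^^^ vc (x.1 j) = vc (x.1 k)) ∧
  x.2 0 = 0 ∧
  ∀ (i : Fin 378) (v : Fin 275), (sMask ((x.1 i).1 / 3)).testBit (x.2 v).1 = (sMask (i.1 / 3)).testBit v.1

theorem Compat.one : Compat 1 := ⟨fun _ => rfl, fun _ _ _ h => h, rfl, fun _ _ => rfl⟩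

theorem Compat.mul {x y : P378 × P275} (hx : Compat x) (hy : Compat y) : Compat (x * y) := by
  refine ⟨fun i => ?_, fun i j k h => ?_, ?_, fun i v => ?_⟩
  · show x.1 (y.1 (omP i)) = omP (x.1 (y.1 i))
    rw [hy.1, hx.1]
  · exact hx.2.1 _ _ _ (hy.2.1 i j k h)
  · show x.2 (y.2 0) = 0
    rw [hy.2.2.1, hx.2.2.1]
  · exact (hx.2.2.2 (y.1 i) (y.2 v)).trans (hy.2.2.2 i v)

/-- The residue of the set of a line determines the line. -/
theorem sets_residue : ∀ p : Fin 126, (Data.lineInv >>> (7 * (sMask p % Data.lineMod))) % 128 = p.1 := by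
  decide +kernel

theorem sets_injective (p q : Fin 126) (h : sMask p = sMask q) : p = q :=
  Fin.ext (by rw [← sets_residue p, ← sets_residue q, h])

theorem sMask_lt : ∀ p : Fin 126, sMask p < 2 ^ 275 := by decide +kernel

theorem vc_sh : ∀ i : Fin 378, vc (om i) = mulw (vc i) ∧ vc i ≠ mulw (vc i) ∧
    vc i ≠ mulw (mulw (vc i)) := by decide +kernel

/-- The check of the tree: every edge forces equal multiples, and every line is reached from the first. -/
def treeStep (seen : List ℕ) : List (ℕ × ℕ × ℕ) → List ℕ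
  | [] => seen
  | (_, j, _) :: t => treeStep (j / 3 :: seen) t

/-- The edges start at known lines. -/
def treeOK : List ℕ → List (ℕ × ℕ × ℕ) → Bool
  | _, [] => true
  | seen, (i, j, k) :: t => seen.contains (i / 3) && decide (i < 378 ∧ j < 378 ∧ k < 378) &&
      (vc i ^^^ vc j == vc k) &&
      ((List.range 3).all fun c => (List.range 3).all fun d => decide (c = d) ||
        (List.range 3).all fun e => !(vc (sh c i) ^^^ vc (sh d j) == vc (sh e k))) && treeOK (j / 3 :: seen) t

theorem tree_ok : treeOK [0] Data.vecTree = true := by decide +kernel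

theorem tree_all : ∀ p : Fin 126, p.1 ∈ treeStep [0] Data.vecTree := by decide +kernel

/-- A compatible pair over the identity is a scalar. -/
theorem scalar_of_fixed {x : P378 × P275} (hx : Compat x) (h1 : x.2 = 1) :
    ∀ i : Fin 378, (x.1 i).1 = sh ((x.1 0).1 % 3) i.1 := by
  obtain ⟨hom, hk, -, hS⟩ := hx
  have hline : ∀ i : Fin 378, (x.1 i).1 / 3 = i.1 / 3 := by
    intro i
    have hi := i.2
    have hj := (x.1 i).2
    have := sets_injective ⟨(x.1 i).1 / 3, by omega⟩ ⟨i.1 / 3, by omega⟩ (Nat.eq_of_testBit_eq fun v => by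
      by_cases hv : v < 275
      · have h := hS i ⟨v, hv⟩
        rw [h1] at h
        exact h
      · rw [Nat.testBit_lt_two_pow ((sMask_lt _).trans_le (Nat.pow_le_pow_right (by norm_num) (by omega))),
          Nat.testBit_lt_two_pow ((sMask_lt _).trans_le (Nat.pow_le_pow_right (by norm_num) (by omega)))])
    exact congrArg Fin.val this
  set c := (x.1 0).1 % 3
  let Good : ℕ → Prop := fun p => ∀ i : Fin 378, i.1 / 3 = p → (x.1 i).1 = sh c i.1
  have hrot : ∀ i : Fin 378, (x.1 i).1 = sh c i.1 → (x.1 (omP i)).1 = sh c (om i.1) := by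
    intro i h
    rw [hom, omP_apply, h]
    simp only [om, sh]
    omega
  have hgood : ∀ i : Fin 378, (x.1 i).1 = sh c i.1 → Good (i.1 / 3) := by
    intro i h j hj
    have h' := hrot _ h
    have h'' := hrot (omP i) (by rw [omP_apply]; exact h')
    rcases Nat.eq_or_lt_of_le (Nat.zero_le ((j.1 + 3 - i.1 % 3) % 3)) with e | e
    · have : j = i := Fin.ext (by omega)
      rw [this]; exact h
    · rcases (show (j.1 + 3 - i.1 % 3) % 3 = 1 ∨ (j.1 + 3 - i.1 % 3) % 3 = 2 by omega) with e' | e'
      · have : j = omP i := Fin.ext (by rw [omP_apply]; simp only [om]; omega)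
        rw [this, omP_apply]; exact h'
      · have : j = omP (omP i) := Fin.ext (by rw [omP_apply, omP_apply]; simp only [om]; omega)
        rw [this, omP_apply]
        exact h''
  have main : ∀ (t : List (ℕ × ℕ × ℕ)) (seen : List ℕ), treeOK seen t = true → (∀ p ∈ seen, Good p) →
      ∀ p ∈ treeStep seen t, Good p := by
    intro t
    induction t with
    | nil => intro seen _ h p hp; exact h p hp
    | cons e t ih =>
      obtain ⟨i, j, k⟩ := e
      intro seen hok h
      simp only [treeOK, Bool.and_eq_true, List.contains_iff_mem, decide_eq_true_eq, List.all_eq_true,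
        Bool.or_eq_true, List.mem_range, Bool.not_eq_true', beq_eq_false_iff_ne, beq_iff_eq] at hok
      obtain ⟨⟨⟨⟨hi, hi1, hj1, hk1⟩, hsum⟩, hforce⟩, hrest⟩ := hok
      refine ih _ hrest ?_
      rintro p hp
      rcases List.mem_cons.1 hp with rfl | hp
      swap
      · exact h p hp
      have e1 : (x.1 ⟨i, hi1⟩).1 = sh c i := h _ hi ⟨i, hi1⟩ rfl
      have e2 := hline ⟨j, hj1⟩
      have e3 := hline ⟨k, hk1⟩
      set b := (x.1 ⟨j, hj1⟩).1 with hb
      set w := (x.1 ⟨k, hk1⟩).1 with hw
      have e4 : vc (sh c i) ^^^ vc b = vc w := e1 ▸ hk ⟨i, hi1⟩ ⟨j, hj1⟩ ⟨k, hk1⟩ hsum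
      have eb : b = sh ((b % 3 + 3 - j % 3) % 3) j := by simp only [sh]; simp only at e2; omega
      have ew : w = sh ((w % 3 + 3 - k % 3) % 3) k := by simp only [sh]; simp only at e3; omega
      rw [eb, ew] at e4
      rcases hforce c (Nat.mod_lt _ (by norm_num)) _ (Nat.mod_lt _ (by norm_num)) with hcd | hcd
      · refine hgood ⟨j, hj1⟩ ?_
        show b = _
        rw [eb, ← hcd]
      · exact absurd e4 (hcd _ (Nat.mod_lt _ (by norm_num)))
  intro i
  have hi := i.2
  refine main _ _ tree_ok ?_ _ (tree_all ⟨i.1 / 3, by omega⟩) i rfl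
  intro p hp
  rw [List.mem_singleton] at hp
  subst hp
  refine hgood 0 ?_
  have := hline 0
  simp only [sh, c, Fin.val_zero] at this ⊢
  omega

end Cfsg.Agent.Lib.McLMult
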