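import Cfsg.Agent.GroupStructure3.McLInv.Group
import Cfsg.Agent.Lib.McLMult.Vectors
import Cfsg.Agent.Lib.McLMult.CosetData
import Cfsg.Agent.Lib.McLMult.StabData

/-!
Representatives of the cosets of a point stabiliser in the McLaughlin group, and the stabiliser as the
image of a group of compatible pairs.
-/

set_option autoImplicit false
set_option maxRecDepth 100000
set_option maxHeartbeats 1000000
set_option Elab.async false

namespace Cfsg.Agent.Lib.McLMult

open Cfsg.Agent.GroupStructure3.McLInv (pT allB allB_spec IsT TT letter exists_letter card_TT)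

local notation "P275" => Equiv.Perm (Fin 275)
local notation "P378" => Equiv.Perm (Fin 378)

/-! ### Cosets -/

/-- The representative at a position. -/
def rT (j : ℕ) : ℕ := Data.cosetTab.getD j 0

/-- The representative of a point. -/
def Rt (y : ℕ) : ℕ := rT (Data.cosetPos.getD y 0)

/-- The check of the representatives. -/
def cosetOK : Bool :=
  (allB 275 fun j =>
    if j = 0 then allB 275 fun i => pT (rT 0) i == i
    else decide ((Data.cosetPar.getD j (0, 0)).2 < j) &&
      allB 275 fun i => pT (rT j) i ==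
        pT (letter ((Data.cosetPar.getD j (0, 0)).1 == 1)) (pT (rT (Data.cosetPar.getD j (0, 0)).2) i)) &&
  allB 275 fun y => decide (Data.cosetPos.getD y 0 < 275) && pT (Rt y) 0 == y

theorem coset_ok : cosetOK = true := by decide +kernel

theorem exists_rep : ∀ j < 275, ∃ σ ∈ TT, IsT (rT j) σ := by
  have hok := coset_ok
  rw [cosetOK, Bool.and_eq_true] at hok
  intro j
  induction j using Nat.strong_induction_on with
  | _ j ih =>
    intro hj
    have h := allB_spec hok.1 j hj
    by_cases h0 : j = 0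
    · rw [if_pos h0] at h
      subst h0
      exact ⟨1, one_mem _, fun i => (beq_iff_eq.1 (allB_spec h i i.2)).symm⟩
    · rw [if_neg h0, Bool.and_eq_true, decide_eq_true_eq] at h
      obtain ⟨σ, hσ, ht⟩ := ih _ h.1 (h.1.trans hj)
      obtain ⟨g, hg, hgT⟩ := exists_letter ((Data.cosetPar.getD j (0, 0)).1 == 1)
      exact ⟨g * σ, mul_mem hgT hσ, fun i => (hg.mul ht i).trans (beq_iff_eq.1 (allB_spec h.2 i i.2)).symm⟩

theorem exists_Rt (y : Fin 275) : ∃ σ ∈ TT, IsT (Rt y) σ ∧ σ 0 = y := by
  have hok := coset_ok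
  rw [cosetOK, Bool.and_eq_true] at hok
  have h := allB_spec hok.2 y y.2
  rw [Bool.and_eq_true, decide_eq_true_eq, beq_iff_eq] at h
  obtain ⟨σ, hσ, ht⟩ := exists_rep _ h.1
  exact ⟨σ, hσ, ht, Fin.ext ((ht 0).trans h.2)⟩

/-- The representative of the coset of a point. -/
noncomputable def R (y : Fin 275) : TT := ⟨(exists_Rt y).choose, (exists_Rt y).choose_spec.1⟩

theorem R_tab (y : Fin 275) : IsT (Rt y) (R y : P275) := (exists_Rt y).choose_spec.2.1

theorem R_zero (y : Fin 275) : (R y : P275) 0 = y := (exists_Rt y).choose_spec.2.2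

/-! ### Compatible pairs -/

/-- The group of compatible pairs with second component in the McLaughlin group. -/
noncomputable def X : Subgroup (P378 × TT) :=
  let M : Submonoid (P378 × TT) :=
    { carrier := {x | Compat (x.1, (x.2 : P275))}
      one_mem' := Compat.one
      mul_mem' := fun hx hy => hx.mul hy }
  { M with
    inv_mem' := by
      intro x hx
      have h : x ^ (orderOf x - 1) ∈ M := M.pow_mem hx _
      rwa [show x⁻¹ = x ^ (orderOf x - 1) from inv_eq_of_mul_eq_one_right (by
        rw [← pow_succ', Nat.sub_add_cancel (orderOf_pos x), pow_orderOf_eq_one])] }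

theorem mem_X {x : P378 × TT} : x ∈ X ↔ Compat (x.1, (x.2 : P275)) := Iff.rfl

/-- The projection. -/
noncomputable def π : X →* TT := (MonoidHom.snd P378 TT).comp X.subtype

/-- The linear map of an element on the coordinates. -/
def cT (k : ℕ) : ℕ := Data.stabCols.getD k 0

/-- The table of the permutation of the vectors of a generator. -/
def tT378 (k : ℕ) : ℕ := Data.stabGenTop.getD k 0

/-- The table of the permutation of the points of an element. -/
def tT275 (k : ℕ) : ℕ := Data.stabLow.getD k 0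

/-- An element of the group has the tables with number `k`. -/
def IsNode (k : ℕ) (x : X) : Prop :=
  (∀ i : Fin 378, vc (x.1.1 i) = lapp (cT k) (vc i)) ∧ IsT (tT275 k) ((π x : TT) : P275)

/-- A generator is compatible. -/
def genB' (l : ℕ) : Bool :=
  (allB 378 fun i => decide (pT (tT378 l) i < 378 ∧ pT (Data.stabGenInv.getD l 0) i < 378) &&
    pT (tT378 l) (pT (Data.stabGenInv.getD l 0) i) == i && pT (Data.stabGenInv.getD l 0) (pT (tT378 l) i) == i &&
    pT (tT378 l) (om i) == om (pT (tT378 l) i) && vc (pT (tT378 l) i) == lapp (cT l) (vc i)) &&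
  pT (tT275 l) 0 == 0 &&
  (allB 378 fun i => (Data.lineSets.getD (i / 3) []).foldr (fun v a => a ||| 1 <<< pT (tT275 l) v) 0 ==
    sMask (pT (tT378 l) i / 3)) &&
  (match Data.stabOps.getD l (0, 0, 0) with
   | (_, k, y) => decide (y < 275) && decide (pT (letter (k == 1)) y < 275) &&
      allB 275 fun i => decide (pT (tT275 l) i < 275) && pT (letter (k == 1)) (pT (Rt y) i) ==
        pT (Rt (pT (letter (k == 1)) y)) (pT (tT275 l) i))

theorem gens_ok : genB' 0 = true ∧ genB' 1 = true ∧ genB' 2 = true := by decide +kernel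

theorem lineSets_lt : ∀ p : Fin 126, ∀ v ∈ Data.lineSets.getD p [], v < 275 := by
  intro p v hv
  have : (List.finRange 126).all (fun p => (Data.lineSets.getD p.1 []).all fun v => decide (v < 275)) = true := by
    decide +kernel
  exact of_decide_eq_true (List.all_eq_true.1 (List.all_eq_true.1 this p (List.mem_finRange p)) v hv)

theorem foldr_testBit (f : ℕ → ℕ) (k : ℕ) : ∀ l : List ℕ,
    (l.foldr (fun v a => a ||| 1 <<< f v) 0).testBit k = true ↔ ∃ v ∈ l, f v = k
  | [] => by simp
  | v :: l => by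
    rw [List.foldr_cons, Nat.testBit_or, Bool.or_eq_true, foldr_testBit f k l, Nat.shiftLeft_eq, one_mul,
      Nat.testBit_two_pow, decide_eq_true_eq]
    simp only [List.mem_cons, exists_eq_or_imp]
    exact or_comm

theorem exists_gen {l : ℕ} (h : genB' l = true) : ∃ x : X, IsNode l x := by
  simp only [genB', Bool.and_eq_true, beq_iff_eq] at h
  obtain ⟨⟨⟨h1, h3⟩, h4⟩, h5⟩ := h
  have h1' : ∀ i : Fin 378, _ := fun i => allB_spec h1 i i.2
  simp only [Bool.and_eq_true, decide_eq_true_eq, beq_iff_eq] at h1'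
  let σ : P378 :=
    { toFun := fun i => ⟨pT (tT378 l) i, (h1' i).1.1.1.1.1⟩
      invFun := fun i => ⟨pT (Data.stabGenInv.getD l 0) i, (h1' i).1.1.1.1.2⟩
      left_inv := fun i => Fin.ext (h1' i).1.1.2
      right_inv := fun i => Fin.ext (h1' i).1.1.1.2 }
  rcases hop : Data.stabOps.getD l (0, 0, 0) with ⟨kind, k, y⟩
  simp only [hop, Bool.and_eq_true, decide_eq_true_eq] at h5
  obtain ⟨⟨hy, hy'⟩, h5⟩ := h5
  obtain ⟨L, hL, hLT⟩ := exists_letter (k == 1)
  set g : TT := (R ⟨pT (letter (k == 1)) y, hy'⟩)⁻¹ * (⟨L, hLT⟩ * R ⟨y, hy⟩) with hg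
  have hgt : IsT (tT275 l) (g : P275) := by
    intro i
    have e := allB_spec h5 i i.2
    rw [Bool.and_eq_true, decide_eq_true_eq, beq_iff_eq] at e
    set P : P275 := (R ⟨pT (letter (k == 1)) y, hy'⟩ : P275) with hP
    have : P ((g : P275) i) = (L * (R ⟨y, hy⟩ : P275)) i := by
      simp [hg, hP]
    have e2 : ((P ((g : P275) i) : Fin 275) : ℕ) = pT (Rt (pT (letter (k == 1)) y)) (pT (tT275 l) i) := by
      rw [this, hL.mul (R_tab _) i]; exact e.2
    have h6 : P ((g : P275) i) = P ⟨pT (tT275 l) i, e.1⟩ := Fin.ext (e2.trans (R_tab ⟨_, hy'⟩ ⟨_, e.1⟩).symm)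
    exact congrArg Fin.val (P.injective h6)
  refine ⟨⟨(σ, g), ?_⟩, fun i => (h1' i).2, hgt⟩
  rw [mem_X]
  refine ⟨fun i => Fin.ext ?_, fun i j m hm => ?_, Fin.ext ((hgt 0).trans h3), fun i v => ?_⟩
  · exact (h1' i).1.2
  · show vc (pT (tT378 l) i) ^^^ vc (pT (tT378 l) j) = vc (pT (tT378 l) m)
    rw [(h1' i).2, (h1' j).2, (h1' m).2, ← lapp_xor, hm]
  · have := beq_iff_eq.1 (allB_spec h4 i i.2)
    rw [Bool.eq_iff_iff]
    show (sMask (pT (tT378 l) i / 3)).testBit ((g : P275) v).1 = true ↔ _
    rw [← this, foldr_testBit, sMask, foldr_testBit (fun v => v)]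
    refine exists_congr fun u => and_congr_right fun hu => ?_
    have hi := i.2
    have hu' := lineSets_lt ⟨i.1 / 3, by omega⟩ u hu
    rw [← (hgt ⟨u, hu'⟩), ← Fin.ext_iff, (g : P275).injective.eq_iff, Fin.ext_iff]

/-- The images of the coordinates under the identity. -/
def idCols : ℕ := (List.range 12).foldr (fun b a => (1 <<< (13 * b)) + a) 0

theorem lapp_id : ∀ i : Fin 378, lapp idCols (vc i) = vc i := by decide +kernel

/-- The check of the products and inverses. -/
def nodeB (k : ℕ) : Bool :=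
  match Data.stabOps.getD k (0, 0, 0) with
  | (kind, a, b) => decide (a < k ∧ b < k) &&
    if kind = 1 then
      (allB 12 fun i => lapp (cT a) ((cT b >>> (12 * i)) % 4096) == (cT k >>> (12 * i)) % 4096) &&
        allB 275 fun i => pT (tT275 k) i == pT (tT275 a) (pT (tT275 b) i)
    else
      (allB 12 fun i => lapp (cT k) ((cT a >>> (12 * i)) % 4096) == (idCols >>> (12 * i)) % 4096) &&
        allB 275 fun i => decide (pT (tT275 k) i < 275) && pT (tT275 a) (pT (tT275 k) i) == i

theorem nodes_ok : (allB 463 fun k => decide (k < 3) || nodeB k) = true := by decide +kernel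

theorem exists_node : ∀ k < 463, ∃ x : X, IsNode k x := by
  intro k
  induction k using Nat.strong_induction_on with
  | _ k ih =>
    intro hk
    have h := allB_spec nodes_ok k hk
    rw [Bool.or_eq_true, decide_eq_true_eq] at h
    rcases h with h | h
    · obtain ⟨g0, g1, g2⟩ := gens_ok
      interval_cases k
      exacts [exists_gen g0, exists_gen g1, exists_gen g2]
    rcases hop : Data.stabOps.getD k (0, 0, 0) with ⟨kind, a, b⟩
    simp only [nodeB, hop, Bool.and_eq_true, decide_eq_true_eq] at h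
    obtain ⟨⟨ha, hb⟩, h⟩ := h
    obtain ⟨xa, a1, a2⟩ := ih a ha (ha.trans hk)
    obtain ⟨xb, b1, b2⟩ := ih b hb (hb.trans hk)
    by_cases hkind : kind = 1
    · rw [if_pos hkind, Bool.and_eq_true] at h
      refine ⟨xa * xb, fun i => ?_, fun i => ?_⟩
      · show vc (xa.1.1 (xb.1.1 i) : Fin 378) = _
        rw [a1, b1]
        exact lapp_comp (fun j hj => beq_iff_eq.1 (allB_spec h.1 j hj)) _
      · exact (a2.mul b2 i).trans (beq_iff_eq.1 (allB_spec h.2 i i.2)).symm
    · rw [if_neg hkind, Bool.and_eq_true] at h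
      refine ⟨xa⁻¹, fun i => ?_, fun i => ?_⟩
      · obtain ⟨j, rfl⟩ := xa.1.1.surjective i
        show vc (((xa.1.1).symm (xa.1.1 j) : Fin 378) : ℕ) = _
        rw [Equiv.symm_apply_apply, a1, lapp_comp (k := idCols) (fun t ht => beq_iff_eq.1 (allB_spec h.1 t ht)),
          lapp_id]
      · have e := allB_spec h.2 i i.2
        rw [Bool.and_eq_true, decide_eq_true_eq, beq_iff_eq] at e
        have : ((π xa : TT) : P275) ⟨_, e.1⟩ = i := Fin.ext ((a2 _).trans e.2)
        show ((((π xa : TT) : P275))⁻¹ i : Fin 275).1 = _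
        rw [Equiv.Perm.inv_eq_iff_eq.2 this.symm]

end Cfsg.Agent.Lib.McLMult
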